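import Cfsg.Agent.Spor.HNq.D0

set_option autoImplicit false
set_option maxRecDepth 100000000
set_option Elab.async false

namespace Cfsg.Agent.Spor.HNq

theorem sq : PA.sq A = true := by decide +kernel

theorem TTok : PA.gensOk A TT 3 = true := by decide +kernel

theorem r3 : PA.isW A TT [2, 2, 2, 2, 2, 2] A.one = true := by decide +kernel

theorem r4 : PA.isW A TT [0, 0, 2, 0, 0, 3] A.one = true := by decide +kernel

theorem r5 : PA.isW A TT [1, 3, 0, 2, 1, 3, 0, 2, 1, 3, 0, 2] A.one = true := by decide +kernel

theorem r6 : PA.isW A TT [1, 2, 2, 0, 2, 2, 2, 1, 2, 2, 0, 2, 2, 2, 1, 2, 2, 0, 2, 2, 2] A.one = true := by decide +kernel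

theorem r7 : PA.isW A TT [0, 2, 0, 2, 0, 2, 0, 2, 0, 2, 0, 2, 0, 2, 0, 2] A.one = true := by decide +kernel

theorem r8 : PA.isW A TT [0, 2, 0, 2, 2, 2, 0, 2, 0, 2, 2, 2, 0, 2, 0, 2, 2, 2, 0, 2, 0, 2, 2, 2] A.one = true := by decide +kernel

theorem r9 : PA.isW A TT [4, 4] A.one = true := by decide +kernel

theorem r10 : PA.isW A TT [4, 0, 4, 0] A.one = true := by decide +kernel

theorem r11 : PA.isW A TT [5, 2, 1, 3, 3, 1, 3, 1, 3, 4, 2, 0, 2, 0, 2, 2, 0, 3, 1, 1] A.one = true := by decide +kernel

theorem r12 : PA.isW A TT [4, 3, 1, 3, 1, 3, 3, 3, 4, 2, 2, 2, 0, 2, 0, 2, 0, 3, 1, 3, 1, 3, 3, 3, 4, 2, 2, 2, 0, 2, 0, 2, 0, 3, 1, 3, 1, 3, 3, 3, 4, 2, 2, 2, 0, 2, 0, 2, 0] A.one = true := by decide +kernel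

theorem w14 : PA.isW A TT [0, 3, 4, 3, 0, 3, 3, 4, 2, 4, 0, 2, 2, 0, 2, 0, 2, 2, 1, 3] m13 = true := by decide +kernel

theorem w17 : PA.isW A TT [4, 2, 2, 4, 0, 2, 4, 3, 4, 0, 3, 3, 4] m16 = true := by decide +kernel

theorem w20 : PA.isW A TT [2, 4, 2, 2, 4, 0, 3, 3, 0, 3] m19 = true := by decide +kernel

theorem w23 : PA.isW A TT [0, 3, 3, 4, 3, 3, 0, 2, 0, 2, 4, 0, 3, 3, 4, 3, 5, 3, 3, 1] m22 = true := by decide +kernel

theorem w26 : PA.isW A TT [0, 0] m25 = true := by decide +kernel

theorem pr29 : Nat.beq (PA.prod A [m22, m22, m19, m22, m22] A.one) m28 = true := by decide +kernel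

theorem pr32 : Nat.beq (PA.prod A [m13, m22, m22, m13, m25] A.one) m31 = true := by decide +kernel

theorem pr35 : Nat.beq (PA.prod A [m22, m22, m25] A.one) m34 = true := by decide +kernel

theorem pr38 : Nat.beq (PA.prod A [m13, m19, m13] A.one) m37 = true := by decide +kernel

theorem iv41 : band (PA.can A m40) (Nat.beq (PA.mul A m22 m40) A.one) = true := by decide +kernel

theorem pr44 : Nat.beq (PA.prod A [m40, m16, m22] A.one) m43 = true := by decide +kernel

theorem pr47 : Nat.beq (PA.prod A [m22, m13, m40] A.one) m46 = true := by decide +kernel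

theorem T2ok : PA.gensOk A T2 11 = true := by decide +kernel

theorem pp49 : PA.pcP A T2 0 2 [] = true := by decide +kernel

theorem pb51 : PA.pcB' A T2 m50 A_one 0 = true := by decide +kernel

theorem pc52 : PA.pcC A T2 1 0 [0] = true := by decide +kernel

theorem pp53 : PA.pcP A T2 1 2 [] = true := by decide +kernel

theorem pb55 : PA.pcB' A T2 m54 A_one 1 = true := by decide +kernel

theorem pb56 : PA.pcB A T2 m54 A_one 0 = true := by decide +kernel

theorem pc57 : PA.pcC A T2 2 0 [0] = true := by decide +kernel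

theorem pc58 : PA.pcC A T2 2 1 [2] = true := by decide +kernel

theorem pp59 : PA.pcP A T2 2 2 [] = true := by decide +kernel

theorem pb61 : PA.pcB' A T2 m60 A_one 2 = true := by decide +kernel

theorem pb62 : PA.pcB A T2 m60 A_one 0 = true := by decide +kernel

theorem pb63 : PA.pcB A T2 m60 A_one 1 = true := by decide +kernel

theorem pc64 : PA.pcC A T2 3 0 [2] = true := by decide +kernel

theorem pc65 : PA.pcC A T2 3 1 [0] = true := by decide +kernel

theorem pc66 : PA.pcC A T2 3 2 [4] = true := by decide +kernel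

theorem pp67 : PA.pcP A T2 3 2 [] = true := by decide +kernel

theorem pb69 : PA.pcB' A T2 m68 A_one 3 = true := by decide +kernel

theorem pb70 : PA.pcB A T2 m68 A_one 0 = true := by decide +kernel

theorem pb71 : PA.pcB A T2 m68 A_one 1 = true := by decide +kernel

theorem pb72 : PA.pcB A T2 m68 A_one 2 = true := by decide +kernel

theorem pc73 : PA.pcC A T2 4 0 [0] = true := by decide +kernel

theorem pc74 : PA.pcC A T2 4 1 [2] = true := by decide +kernel

theorem pc75 : PA.pcC A T2 4 2 [0, 2, 4] = true := by decide +kernel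

theorem pc76 : PA.pcC A T2 4 3 [6] = true := by decide +kernel

theorem pp77 : PA.pcP A T2 4 2 [] = true := by decide +kernel

theorem pb79 : PA.pcB' A T2 m78 A_one 4 = true := by decide +kernel

theorem pb80 : PA.pcB A T2 m78 A_one 0 = true := by decide +kernel

theorem pb81 : PA.pcB A T2 m78 A_one 1 = true := by decide +kernel

theorem pb82 : PA.pcB A T2 m78 A_one 2 = true := by decide +kernel

theorem pb83 : PA.pcB A T2 m78 A_one 3 = true := by decide +kernel

theorem pc84 : PA.pcC A T2 5 0 [8] = true := by decide +kernel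

theorem pc85 : PA.pcC A T2 5 1 [0, 2, 8] = true := by decide +kernel

theorem pc86 : PA.pcC A T2 5 2 [6] = true := by decide +kernel

theorem pc87 : PA.pcC A T2 5 3 [4] = true := by decide +kernel

theorem pc88 : PA.pcC A T2 5 4 [0] = true := by decide +kernel

theorem pp89 : PA.pcP A T2 5 2 [] = true := by decide +kernel

theorem pb91 : PA.pcB' A T2 m90 A_one 5 = true := by decide +kernel

theorem pb92 : PA.pcB A T2 m90 A_one 0 = true := by decide +kernel

theorem pb93 : PA.pcB A T2 m90 A_one 1 = true := by decide +kernel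

theorem pb94 : PA.pcB A T2 m90 A_one 2 = true := by decide +kernel

theorem pb95 : PA.pcB A T2 m90 A_one 3 = true := by decide +kernel

theorem pb96 : PA.pcB A T2 m90 A_one 4 = true := by decide +kernel

theorem pc97 : PA.pcC A T2 6 0 [0] = true := by decide +kernel

theorem pc98 : PA.pcC A T2 6 1 [2] = true := by decide +kernel

theorem pc99 : PA.pcC A T2 6 2 [0, 2, 4] = true := by decide +kernel

theorem pc100 : PA.pcC A T2 6 3 [0, 2, 6] = true := by decide +kernel

theorem pc101 : PA.pcC A T2 6 4 [8] = true := by decide +kernel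

theorem pc102 : PA.pcC A T2 6 5 [10] = true := by decide +kernel

theorem pp103 : PA.pcP A T2 6 2 [] = true := by decide +kernel

theorem pb105 : PA.pcB' A T2 m104 A_one 6 = true := by decide +kernel

theorem pb106 : PA.pcB A T2 m104 A_one 0 = true := by decide +kernel

theorem pb107 : PA.pcB A T2 m104 A_one 1 = true := by decide +kernel

theorem pb108 : PA.pcB A T2 m104 A_one 2 = true := by decide +kernel

theorem pb109 : PA.pcB A T2 m104 A_one 3 = true := by decide +kernel

theorem pb110 : PA.pcB A T2 m104 A_one 4 = true := by decide +kernel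

theorem pb111 : PA.pcB A T2 m104 A_one 5 = true := by decide +kernel

theorem pc112 : PA.pcC A T2 7 0 [0] = true := by decide +kernel

theorem pc113 : PA.pcC A T2 7 1 [2] = true := by decide +kernel

theorem pc114 : PA.pcC A T2 7 2 [4] = true := by decide +kernel

theorem pc115 : PA.pcC A T2 7 3 [6] = true := by decide +kernel

theorem pc116 : PA.pcC A T2 7 4 [8] = true := by decide +kernel

theorem pc117 : PA.pcC A T2 7 5 [10] = true := by decide +kernel

theorem pc118 : PA.pcC A T2 7 6 [12] = true := by decide +kernel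

theorem pp119 : PA.pcP A T2 7 2 [] = true := by decide +kernel

theorem pb121 : PA.pcB' A T2 m120 A_one 7 = true := by decide +kernel

theorem pb122 : PA.pcB A T2 m120 A_one 0 = true := by decide +kernel

theorem pb123 : PA.pcB A T2 m120 A_one 1 = true := by decide +kernel

theorem pb124 : PA.pcB A T2 m120 A_one 2 = true := by decide +kernel

theorem pb125 : PA.pcB A T2 m120 A_one 3 = true := by decide +kernel

theorem pb126 : PA.pcB A T2 m120 A_one 4 = true := by decide +kernel

theorem pb127 : PA.pcB A T2 m120 A_one 5 = true := by decide +kernel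

theorem pb128 : PA.pcB A T2 m120 A_one 6 = true := by decide +kernel

theorem pc129 : PA.pcC A T2 8 0 [2] = true := by decide +kernel

theorem pc130 : PA.pcC A T2 8 1 [0] = true := by decide +kernel

theorem pc131 : PA.pcC A T2 8 2 [0, 2, 4] = true := by decide +kernel

theorem pc132 : PA.pcC A T2 8 3 [0, 2, 6] = true := by decide +kernel

theorem pc133 : PA.pcC A T2 8 4 [0, 2, 8] = true := by decide +kernel

theorem pc134 : PA.pcC A T2 8 5 [10, 14] = true := by decide +kernel

theorem pc135 : PA.pcC A T2 8 6 [0, 2, 12] = true := by decide +kernel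

theorem pc136 : PA.pcC A T2 8 7 [14] = true := by decide +kernel

theorem pp137 : PA.pcP A T2 8 2 [] = true := by decide +kernel

theorem pa139 : PA.pcA' A T2 m138 8 = true := by decide +kernel

theorem pa140 : PA.pcA A T2 m138 0 = true := by decide +kernel

theorem pa141 : PA.pcA A T2 m138 1 = true := by decide +kernel

theorem pa142 : PA.pcA A T2 m138 2 = true := by decide +kernel

theorem pa143 : PA.pcA A T2 m138 3 = true := by decide +kernel

theorem pa144 : PA.pcA A T2 m138 4 = true := by decide +kernel

theorem pa145 : PA.pcA A T2 m138 5 = true := by decide +kernel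

theorem pa146 : PA.pcA A T2 m138 6 = true := by decide +kernel

theorem pa147 : PA.pcA A T2 m138 7 = true := by decide +kernel

theorem pc148 : PA.pcC A T2 9 0 [6, 8, 12, 16] = true := by decide +kernel

theorem pc149 : PA.pcC A T2 9 1 [0, 2, 6, 8, 12, 16] = true := by decide +kernel

theorem pc150 : PA.pcC A T2 9 2 [6] = true := by decide +kernel

theorem pc151 : PA.pcC A T2 9 3 [4] = true := by decide +kernel

theorem pc152 : PA.pcC A T2 9 4 [2, 4, 12, 14, 16] = true := by decide +kernel

theorem pc153 : PA.pcC A T2 9 5 [4, 6, 10] = true := by decide +kernel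

theorem pc154 : PA.pcC A T2 9 6 [12, 14] = true := by decide +kernel

theorem pc155 : PA.pcC A T2 9 7 [14] = true := by decide +kernel

theorem pc156 : PA.pcC A T2 9 8 [16] = true := by decide +kernel

theorem pp157 : PA.pcP A T2 9 2 [] = true := by decide +kernel

theorem pa159 : PA.pcA' A T2 m158 9 = true := by decide +kernel

theorem pa160 : PA.pcA A T2 m158 0 = true := by decide +kernel

theorem pa161 : PA.pcA A T2 m158 1 = true := by decide +kernel

theorem pa162 : PA.pcA A T2 m158 2 = true := by decide +kernel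

theorem pa163 : PA.pcA A T2 m158 3 = true := by decide +kernel

theorem pa164 : PA.pcA A T2 m158 4 = true := by decide +kernel

theorem pa165 : PA.pcA A T2 m158 5 = true := by decide +kernel

theorem pa166 : PA.pcA A T2 m158 6 = true := by decide +kernel

theorem pa167 : PA.pcA A T2 m158 7 = true := by decide +kernel

theorem pa168 : PA.pcA A T2 m158 8 = true := by decide +kernel

theorem pc169 : PA.pcC A T2 10 0 [2, 12, 14, 16] = true := by decide +kernel

theorem pc170 : PA.pcC A T2 10 1 [0, 12, 14, 16] = true := by decide +kernel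

theorem pc171 : PA.pcC A T2 10 2 [4] = true := by decide +kernel

theorem pc172 : PA.pcC A T2 10 3 [6] = true := by decide +kernel

theorem pc173 : PA.pcC A T2 10 4 [6, 8] = true := by decide +kernel

theorem pc174 : PA.pcC A T2 10 5 [18] = true := by decide +kernel

theorem pc175 : PA.pcC A T2 10 6 [0, 2, 16] = true := by decide +kernel

theorem pc176 : PA.pcC A T2 10 7 [14] = true := by decide +kernel

theorem pc177 : PA.pcC A T2 10 8 [12] = true := by decide +kernel

theorem pc178 : PA.pcC A T2 10 9 [4, 6, 10] = true := by decide +kernel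

theorem pp179 : PA.pcP A T2 10 2 [6, 14] = true := by decide +kernel

theorem pa181 : PA.pcA' A T2 m180 10 = true := by decide +kernel

theorem pa182 : PA.pcA A T2 m180 0 = true := by decide +kernel

theorem pa183 : PA.pcA A T2 m180 1 = true := by decide +kernel

theorem pa184 : PA.pcA A T2 m180 2 = true := by decide +kernel

theorem pa185 : PA.pcA A T2 m180 3 = true := by decide +kernel

theorem pa186 : PA.pcA A T2 m180 4 = true := by decide +kernel

theorem pa187 : PA.pcA A T2 m180 5 = true := by decide +kernel

theorem pa188 : PA.pcA A T2 m180 6 = true := by decide +kernel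

theorem pa189 : PA.pcA A T2 m180 7 = true := by decide +kernel

theorem pa190 : PA.pcA A T2 m180 8 = true := by decide +kernel

theorem pa191 : PA.pcA A T2 m180 9 = true := by decide +kernel

theorem w193 : PA.isW A TT [2, 4, 0, 2, 0, 2, 2, 2, 4, 3, 3, 4, 3, 4, 3, 1, 3, 1, 5, 3, 5, 0, 0] m192 = true := by decide +kernel

theorem w196 : PA.isW A TT [2, 0, 3, 4, 2, 2, 2, 4, 3, 0, 3, 3, 4, 2, 2, 1, 5, 3] m195 = true := by decide +kernel

theorem T3ok : PA.gensOk A T3 2 = true := by decide +kernel

theorem pp200 : PA.pcP A T3 0 3 [] = true := by decide +kernel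

theorem pb202 : PA.pcB' A T3 m201 A_one 0 = true := by decide +kernel

theorem pc203 : PA.pcC A T3 1 0 [0] = true := by decide +kernel

theorem pp204 : PA.pcP A T3 1 3 [] = true := by decide +kernel

theorem pb206 : PA.pcB' A T3 m205 A_one 1 = true := by decide +kernel

theorem pb207 : PA.pcB A T3 m205 A_one 0 = true := by decide +kernel

theorem w209 : PA.isW A TT [0, 3, 0, 3, 4, 3, 3, 4, 2, 2, 4, 3, 3, 0, 3, 3, 1, 2, 2, 5, 2] m208 = true := by decide +kernel

theorem w212 : PA.isW A TT [3, 0, 3, 4, 3, 3, 4, 2, 0, 2, 4, 2, 2, 0, 2, 0, 2, 5, 2, 1, 2, 0, 0] m211 = true := by decide +kernel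

theorem iv215 : band (PA.can A m214) (Nat.beq (PA.mul A m211 m214) A.one) = true := by decide +kernel

theorem iv218 : band (PA.can A m217) (Nat.beq (PA.mul A m208 m217) A.one) = true := by decide +kernel

theorem pr221 : Nat.beq (PA.prod A [m208, m214, m217, m211] A.one) m220 = true := by decide +kernel

theorem pr224 : Nat.beq (PA.prod A [m211, m217] A.one) m223 = true := by decide +kernel

theorem T5ok : PA.gensOk A T5 3 = true := by decide +kernel

theorem pp228 : PA.pcP A T5 0 5 [] = true := by decide +kernel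

theorem pb230 : PA.pcB' A T5 m229 A_one 0 = true := by decide +kernel

theorem pc231 : PA.pcC A T5 1 0 [0] = true := by decide +kernel

theorem pp232 : PA.pcP A T5 1 5 [] = true := by decide +kernel

theorem pb234 : PA.pcB' A T5 m233 A_one 1 = true := by decide +kernel

theorem pb235 : PA.pcB A T5 m233 A_one 0 = true := by decide +kernel

theorem pc236 : PA.pcC A T5 2 0 [0] = true := by decide +kernel

theorem pc237 : PA.pcC A T5 2 1 [1, 2] = true := by decide +kernel

theorem pp238 : PA.pcP A T5 2 5 [] = true := by decide +kernel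

theorem pb240 : PA.pcB' A T5 m239 A_one 2 = true := by decide +kernel

theorem pb241 : PA.pcB A T5 m239 A_one 0 = true := by decide +kernel

theorem pb242 : PA.pcB A T5 m239 A_one 1 = true := by decide +kernel

theorem w244 : PA.isW A TT [2, 4, 2, 2, 4, 2, 0, 3, 0, 3, 3, 0, 2, 0, 2, 0, 5, 2, 2, 5, 3] m243 = true := by decide +kernel

theorem T7ok : PA.gensOk A T7 1 = true := by decide +kernel

theorem pp247 : PA.pcP A T7 0 7 [] = true := by decide +kernel

theorem pb249 : PA.pcB' A T7 m248 A_one 0 = true := by decide +kernel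

theorem w251 : PA.isW A TT [0, 3, 0, 3, 3, 0, 2, 2, 4, 2, 4, 3, 3, 4, 3, 3, 1, 5, 2] m250 = true := by decide +kernel

theorem T11ok : PA.gensOk A T11 1 = true := by decide +kernel

theorem pp254 : PA.pcP A T11 0 11 [] = true := by decide +kernel

theorem pb256 : PA.pcB' A T11 m255 A_one 0 = true := by decide +kernel

end Cfsg.Agent.Spor.HNq
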