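import Cfsg.Agent.Spor.PC
import Cfsg.Agent.Spor.HNP.Grp
import Cfsg.Agent.Spor.HNq.C0

set_option autoImplicit false
set_option maxRecDepth 100000000
set_option Elab.async false

namespace Cfsg.Agent.Spor.HNq

theorem hp : ((A.p : ℕ) : ZMod 5) = 0 := by decide
instance instCharP : CharP (ZMod 5) A.p := ZMod.charP 5

noncomputable abbrev Ω : MRep A (ZMod 5) (GL (Fin A.d) (ZMod 5)) := MRep.gl A (ZMod 5) sq hp
noncomputable abbrev F : ℕ → GL (Fin A.d) (ZMod 5) := Ω.gen TT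
theorem gensF : Ω.Gens TT (atm 3 F) := MRep.gl_gens TTok
theorem presF : Pres 3 0 HNP.RL F :=
  ⟨fun _ h => absurd h (Nat.not_lt_zero _), gensF.all_one (show AllP (fun w => PA.isW A TT w A.one = true) [[2, 2, 2, 2, 2, 2], [0, 0, 2, 0, 0, 3], [1, 3, 0, 2, 1, 3, 0, 2, 1, 3, 0, 2], [1, 2, 2, 0, 2, 2, 2, 1, 2, 2, 0, 2, 2, 2, 1, 2, 2, 0, 2, 2, 2], [0, 2, 0, 2, 0, 2, 0, 2, 0, 2, 0, 2, 0, 2, 0, 2], [0, 2, 0, 2, 2, 2, 0, 2, 0, 2, 2, 2, 0, 2, 0, 2, 2, 2, 0, 2, 0, 2, 2, 2], [4, 4], [4, 0, 4, 0], [5, 2, 1, 3, 3, 1, 3, 1, 3, 4, 2, 0, 2, 0, 2, 2, 0, 3, 1, 1], [4, 3, 1, 3, 1, 3, 3, 3, 4, 2, 2, 2, 0, 2, 0, 2, 0, 3, 1, 3, 1, 3, 3, 3, 4, 2, 2, 2, 0, 2, 0, 2, 0, 3, 1, 3, 1, 3, 3, 3, 4, 2, 2, 2, 0, 2, 0, 2, 0]] from AllP.cons r3 (AllP.cons r4 (AllP.cons r5 (AllP.cons r6 (AllP.cons r7 (AllP.cons r8 (AllP.cons r9 (AllP.cons r10 (AllP.cons r11 (AllP.cons r12 (AllP.nil)))))))))))⟩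
noncomputable abbrev Q : Subgroup (GL (Fin A.d) (ZMod 5)) := gsub 3 F
noncomputable def XQ : MRep A (ZMod 5) Q := Ω.comp Q.subtype Q.subtype_injective
theorem gensQ : XQ.Gens TT (atm 3 (lift Q F)) := gensF.lift fun _ hj => mem_gsub F hj
theorem hM15 : XQ.M m13 := (gensQ.isW w14).1
theorem hM18 : XQ.M m16 := (gensQ.isW w17).1
theorem hM21 : XQ.M m19 := (gensQ.isW w20).1
theorem hM24 : XQ.M m22 := (gensQ.isW w23).1
theorem hM27 : XQ.M m25 := (gensQ.isW w26).1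
theorem hM30 : XQ.M m28 := MRep.M.of_prod (L := [m22, m22, m19, m22, m22]) (AllP.cons hM24 (AllP.cons hM24 (AllP.cons hM21 (AllP.cons hM24 (AllP.cons hM24 (AllP.nil)))))) pr29
theorem hM33 : XQ.M m31 := MRep.M.of_prod (L := [m13, m22, m22, m13, m25]) (AllP.cons hM15 (AllP.cons hM24 (AllP.cons hM24 (AllP.cons hM15 (AllP.cons hM27 (AllP.nil)))))) pr32
theorem hM36 : XQ.M m34 := MRep.M.of_prod (L := [m22, m22, m25]) (AllP.cons hM24 (AllP.cons hM24 (AllP.cons hM27 (AllP.nil)))) pr35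
theorem hM39 : XQ.M m37 := MRep.M.of_prod (L := [m13, m19, m13]) (AllP.cons hM15 (AllP.cons hM21 (AllP.cons hM15 (AllP.nil)))) pr38
theorem hM42 : XQ.M m40 := (MRep.M.inv hM24 iv41).1
theorem hM45 : XQ.M m43 := MRep.M.of_prod (L := [m40, m16, m22]) (AllP.cons hM42 (AllP.cons hM18 (AllP.cons hM24 (AllP.nil)))) pr44
theorem hM48 : XQ.M m46 := MRep.M.of_prod (L := [m22, m13, m40]) (AllP.cons hM24 (AllP.cons hM15 (AllP.cons hM42 (AllP.nil)))) pr47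
theorem gT2 : XQ.Gens T2 (atm 11 (XQ.gen T2)) :=
  MRep.Gens.of_M T2ok (MRep.allM (L := [m19, m28, m31, m34, m37, m13, m16, m25, m43, m46, m22]) (AllP.cons hM21 (AllP.cons hM30 (AllP.cons hM33 (AllP.cons hM36 (AllP.cons hM39 (AllP.cons hM15 (AllP.cons hM18 (AllP.cons hM27 (AllP.cons hM45 (AllP.cons hM48 (AllP.cons hM24 (AllP.nil)))))))))))) rfl)
theorem T2pc1 : PC (XQ.gen T2) 1 2 :=
  gT2.pc (p := 2) (PC.zero _) (by decide) (by norm_num)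
    (show AllP (fun j => ∃ w, PA.pcC A T2 0 j w = true) [] from AllP.nil) pp49
    (gT2.notB (by decide) (PC.zero _) pb51 (show AllP (fun j => PA.pcB A T2 m50 A_one j = true) [] from AllP.nil))
theorem T2pc2 : PC (XQ.gen T2) 2 4 :=
  gT2.pc (p := 2) T2pc1 (by decide) (by norm_num)
    (show AllP (fun j => ∃ w, PA.pcC A T2 1 j w = true) [0] from AllP.cons ⟨_, pc52⟩ (AllP.nil)) pp53
    (gT2.notB (by decide) T2pc1 pb55 (show AllP (fun j => PA.pcB A T2 m54 A_one j = true) [0] from AllP.cons pb56 (AllP.nil)))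
theorem T2pc3 : PC (XQ.gen T2) 3 8 :=
  gT2.pc (p := 2) T2pc2 (by decide) (by norm_num)
    (show AllP (fun j => ∃ w, PA.pcC A T2 2 j w = true) [0, 1] from AllP.cons ⟨_, pc57⟩ (AllP.cons ⟨_, pc58⟩ (AllP.nil))) pp59
    (gT2.notB (by decide) T2pc2 pb61 (show AllP (fun j => PA.pcB A T2 m60 A_one j = true) [0, 1] from AllP.cons pb62 (AllP.cons pb63 (AllP.nil))))
theorem T2pc4 : PC (XQ.gen T2) 4 16 :=
  gT2.pc (p := 2) T2pc3 (by decide) (by norm_num)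
    (show AllP (fun j => ∃ w, PA.pcC A T2 3 j w = true) [0, 1, 2] from AllP.cons ⟨_, pc64⟩ (AllP.cons ⟨_, pc65⟩ (AllP.cons ⟨_, pc66⟩ (AllP.nil)))) pp67
    (gT2.notB (by decide) T2pc3 pb69 (show AllP (fun j => PA.pcB A T2 m68 A_one j = true) [0, 1, 2] from AllP.cons pb70 (AllP.cons pb71 (AllP.cons pb72 (AllP.nil)))))
theorem T2pc5 : PC (XQ.gen T2) 5 32 :=
  gT2.pc (p := 2) T2pc4 (by decide) (by norm_num)
    (show AllP (fun j => ∃ w, PA.pcC A T2 4 j w = true) [0, 1, 2, 3] from AllP.cons ⟨_, pc73⟩ (AllP.cons ⟨_, pc74⟩ (AllP.cons ⟨_, pc75⟩ (AllP.cons ⟨_, pc76⟩ (AllP.nil))))) pp77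
    (gT2.notB (by decide) T2pc4 pb79 (show AllP (fun j => PA.pcB A T2 m78 A_one j = true) [0, 1, 2, 3] from AllP.cons pb80 (AllP.cons pb81 (AllP.cons pb82 (AllP.cons pb83 (AllP.nil))))))
theorem T2pc6 : PC (XQ.gen T2) 6 64 :=
  gT2.pc (p := 2) T2pc5 (by decide) (by norm_num)
    (show AllP (fun j => ∃ w, PA.pcC A T2 5 j w = true) [0, 1, 2, 3, 4] from AllP.cons ⟨_, pc84⟩ (AllP.cons ⟨_, pc85⟩ (AllP.cons ⟨_, pc86⟩ (AllP.cons ⟨_, pc87⟩ (AllP.cons ⟨_, pc88⟩ (AllP.nil)))))) pp89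
    (gT2.notB (by decide) T2pc5 pb91 (show AllP (fun j => PA.pcB A T2 m90 A_one j = true) [0, 1, 2, 3, 4] from AllP.cons pb92 (AllP.cons pb93 (AllP.cons pb94 (AllP.cons pb95 (AllP.cons pb96 (AllP.nil)))))))
theorem T2pc7 : PC (XQ.gen T2) 7 128 :=
  gT2.pc (p := 2) T2pc6 (by decide) (by norm_num)
    (show AllP (fun j => ∃ w, PA.pcC A T2 6 j w = true) [0, 1, 2, 3, 4, 5] from AllP.cons ⟨_, pc97⟩ (AllP.cons ⟨_, pc98⟩ (AllP.cons ⟨_, pc99⟩ (AllP.cons ⟨_, pc100⟩ (AllP.cons ⟨_, pc101⟩ (AllP.cons ⟨_, pc102⟩ (AllP.nil))))))) pp103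
    (gT2.notB (by decide) T2pc6 pb105 (show AllP (fun j => PA.pcB A T2 m104 A_one j = true) [0, 1, 2, 3, 4, 5] from AllP.cons pb106 (AllP.cons pb107 (AllP.cons pb108 (AllP.cons pb109 (AllP.cons pb110 (AllP.cons pb111 (AllP.nil))))))))
theorem T2pc8 : PC (XQ.gen T2) 8 256 :=
  gT2.pc (p := 2) T2pc7 (by decide) (by norm_num)
    (show AllP (fun j => ∃ w, PA.pcC A T2 7 j w = true) [0, 1, 2, 3, 4, 5, 6] from AllP.cons ⟨_, pc112⟩ (AllP.cons ⟨_, pc113⟩ (AllP.cons ⟨_, pc114⟩ (AllP.cons ⟨_, pc115⟩ (AllP.cons ⟨_, pc116⟩ (AllP.cons ⟨_, pc117⟩ (AllP.cons ⟨_, pc118⟩ (AllP.nil)))))))) pp119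
    (gT2.notB (by decide) T2pc7 pb121 (show AllP (fun j => PA.pcB A T2 m120 A_one j = true) [0, 1, 2, 3, 4, 5, 6] from AllP.cons pb122 (AllP.cons pb123 (AllP.cons pb124 (AllP.cons pb125 (AllP.cons pb126 (AllP.cons pb127 (AllP.cons pb128 (AllP.nil)))))))))
theorem T2pc9 : PC (XQ.gen T2) 9 512 :=
  gT2.pc (p := 2) T2pc8 (by decide) (by norm_num)
    (show AllP (fun j => ∃ w, PA.pcC A T2 8 j w = true) [0, 1, 2, 3, 4, 5, 6, 7] from AllP.cons ⟨_, pc129⟩ (AllP.cons ⟨_, pc130⟩ (AllP.cons ⟨_, pc131⟩ (AllP.cons ⟨_, pc132⟩ (AllP.cons ⟨_, pc133⟩ (AllP.cons ⟨_, pc134⟩ (AllP.cons ⟨_, pc135⟩ (AllP.cons ⟨_, pc136⟩ (AllP.nil))))))))) pp137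
    (gT2.notA (by decide) T2pc8 pa139 (show AllP (fun j => PA.pcA A T2 m138 j = true) [0, 1, 2, 3, 4, 5, 6, 7] from AllP.cons pa140 (AllP.cons pa141 (AllP.cons pa142 (AllP.cons pa143 (AllP.cons pa144 (AllP.cons pa145 (AllP.cons pa146 (AllP.cons pa147 (AllP.nil))))))))))
theorem T2pc10 : PC (XQ.gen T2) 10 1024 :=
  gT2.pc (p := 2) T2pc9 (by decide) (by norm_num)
    (show AllP (fun j => ∃ w, PA.pcC A T2 9 j w = true) [0, 1, 2, 3, 4, 5, 6, 7, 8] from AllP.cons ⟨_, pc148⟩ (AllP.cons ⟨_, pc149⟩ (AllP.cons ⟨_, pc150⟩ (AllP.cons ⟨_, pc151⟩ (AllP.cons ⟨_, pc152⟩ (AllP.cons ⟨_, pc153⟩ (AllP.cons ⟨_, pc154⟩ (AllP.cons ⟨_, pc155⟩ (AllP.cons ⟨_, pc156⟩ (AllP.nil)))))))))) pp157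
    (gT2.notA (by decide) T2pc9 pa159 (show AllP (fun j => PA.pcA A T2 m158 j = true) [0, 1, 2, 3, 4, 5, 6, 7, 8] from AllP.cons pa160 (AllP.cons pa161 (AllP.cons pa162 (AllP.cons pa163 (AllP.cons pa164 (AllP.cons pa165 (AllP.cons pa166 (AllP.cons pa167 (AllP.cons pa168 (AllP.nil)))))))))))
theorem T2pc11 : PC (XQ.gen T2) 11 2048 :=
  gT2.pc (p := 2) T2pc10 (by decide) (by norm_num)
    (show AllP (fun j => ∃ w, PA.pcC A T2 10 j w = true) [0, 1, 2, 3, 4, 5, 6, 7, 8, 9] from AllP.cons ⟨_, pc169⟩ (AllP.cons ⟨_, pc170⟩ (AllP.cons ⟨_, pc171⟩ (AllP.cons ⟨_, pc172⟩ (AllP.cons ⟨_, pc173⟩ (AllP.cons ⟨_, pc174⟩ (AllP.cons ⟨_, pc175⟩ (AllP.cons ⟨_, pc176⟩ (AllP.cons ⟨_, pc177⟩ (AllP.cons ⟨_, pc178⟩ (AllP.nil))))))))))) pp179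
    (gT2.notA (by decide) T2pc10 pa181 (show AllP (fun j => PA.pcA A T2 m180 j = true) [0, 1, 2, 3, 4, 5, 6, 7, 8, 9] from AllP.cons pa182 (AllP.cons pa183 (AllP.cons pa184 (AllP.cons pa185 (AllP.cons pa186 (AllP.cons pa187 (AllP.cons pa188 (AllP.cons pa189 (AllP.cons pa190 (AllP.cons pa191 (AllP.nil))))))))))))
theorem hM194 : XQ.M m192 := (gensQ.isW w193).1
theorem hM197 : XQ.M m195 := (gensQ.isW w196).1
theorem gT3 : XQ.Gens T3 (atm 2 (XQ.gen T3)) :=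
  MRep.Gens.of_M T3ok (MRep.allM (L := [m195, m192]) (AllP.cons hM197 (AllP.cons hM194 (AllP.nil))) rfl)
theorem T3pc1 : PC (XQ.gen T3) 1 3 :=
  gT3.pc (p := 3) (PC.zero _) (by decide) (by norm_num)
    (show AllP (fun j => ∃ w, PA.pcC A T3 0 j w = true) [] from AllP.nil) pp200
    (gT3.notB (by decide) (PC.zero _) pb202 (show AllP (fun j => PA.pcB A T3 m201 A_one j = true) [] from AllP.nil))
theorem T3pc2 : PC (XQ.gen T3) 2 9 :=
  gT3.pc (p := 3) T3pc1 (by decide) (by norm_num)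
    (show AllP (fun j => ∃ w, PA.pcC A T3 1 j w = true) [0] from AllP.cons ⟨_, pc203⟩ (AllP.nil)) pp204
    (gT3.notB (by decide) T3pc1 pb206 (show AllP (fun j => PA.pcB A T3 m205 A_one j = true) [0] from AllP.cons pb207 (AllP.nil)))
theorem hM210 : XQ.M m208 := (gensQ.isW w209).1
theorem hM213 : XQ.M m211 := (gensQ.isW w212).1
theorem hM216 : XQ.M m214 := (MRep.M.inv hM213 iv215).1
theorem hM219 : XQ.M m217 := (MRep.M.inv hM210 iv218).1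
theorem hM222 : XQ.M m220 := MRep.M.of_prod (L := [m208, m214, m217, m211]) (AllP.cons hM210 (AllP.cons hM216 (AllP.cons hM219 (AllP.cons hM213 (AllP.nil))))) pr221
theorem hM225 : XQ.M m223 := MRep.M.of_prod (L := [m211, m217]) (AllP.cons hM213 (AllP.cons hM219 (AllP.nil))) pr224
theorem gT5 : XQ.Gens T5 (atm 3 (XQ.gen T5)) :=
  MRep.Gens.of_M T5ok (MRep.allM (L := [m220, m223, m208]) (AllP.cons hM222 (AllP.cons hM225 (AllP.cons hM210 (AllP.nil)))) rfl)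
theorem T5pc1 : PC (XQ.gen T5) 1 5 :=
  gT5.pc (p := 5) (PC.zero _) (by decide) (by norm_num)
    (show AllP (fun j => ∃ w, PA.pcC A T5 0 j w = true) [] from AllP.nil) pp228
    (gT5.notB (by decide) (PC.zero _) pb230 (show AllP (fun j => PA.pcB A T5 m229 A_one j = true) [] from AllP.nil))
theorem T5pc2 : PC (XQ.gen T5) 2 25 :=
  gT5.pc (p := 5) T5pc1 (by decide) (by norm_num)
    (show AllP (fun j => ∃ w, PA.pcC A T5 1 j w = true) [0] from AllP.cons ⟨_, pc231⟩ (AllP.nil)) pp232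
    (gT5.notB (by decide) T5pc1 pb234 (show AllP (fun j => PA.pcB A T5 m233 A_one j = true) [0] from AllP.cons pb235 (AllP.nil)))
theorem T5pc3 : PC (XQ.gen T5) 3 125 :=
  gT5.pc (p := 5) T5pc2 (by decide) (by norm_num)
    (show AllP (fun j => ∃ w, PA.pcC A T5 2 j w = true) [0, 1] from AllP.cons ⟨_, pc236⟩ (AllP.cons ⟨_, pc237⟩ (AllP.nil))) pp238
    (gT5.notB (by decide) T5pc2 pb240 (show AllP (fun j => PA.pcB A T5 m239 A_one j = true) [0, 1] from AllP.cons pb241 (AllP.cons pb242 (AllP.nil))))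
theorem hM245 : XQ.M m243 := (gensQ.isW w244).1
theorem gT7 : XQ.Gens T7 (atm 1 (XQ.gen T7)) :=
  MRep.Gens.of_M T7ok (MRep.allM (L := [m243]) (AllP.cons hM245 (AllP.nil)) rfl)
theorem T7pc1 : PC (XQ.gen T7) 1 7 :=
  gT7.pc (p := 7) (PC.zero _) (by decide) (by norm_num)
    (show AllP (fun j => ∃ w, PA.pcC A T7 0 j w = true) [] from AllP.nil) pp247
    (gT7.notB (by decide) (PC.zero _) pb249 (show AllP (fun j => PA.pcB A T7 m248 A_one j = true) [] from AllP.nil))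
theorem hM252 : XQ.M m250 := (gensQ.isW w251).1
theorem gT11 : XQ.Gens T11 (atm 1 (XQ.gen T11)) :=
  MRep.Gens.of_M T11ok (MRep.allM (L := [m250]) (AllP.cons hM252 (AllP.nil)) rfl)
theorem T11pc1 : PC (XQ.gen T11) 1 11 :=
  gT11.pc (p := 11) (PC.zero _) (by decide) (by norm_num)
    (show AllP (fun j => ∃ w, PA.pcC A T11 0 j w = true) [] from AllP.nil) pp254
    (gT11.notB (by decide) (PC.zero _) pb256 (show AllP (fun j => PA.pcB A T11 m255 A_one j = true) [] from AllP.nil))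
theorem lbQ : 177408000 ∣ Nat.card Q :=
  (show _ ∣ Nat.lcm (Nat.lcm (Nat.lcm (Nat.lcm _ _) _) _) _ by decide +kernel).trans
    (Nat.lcm_dvd (Nat.lcm_dvd (Nat.lcm_dvd (Nat.lcm_dvd T2pc11.dvd T3pc2.dvd) T5pc3.dvd) T7pc1.dvd) T11pc1.dvd)

theorem hom : ∃ ψ : HNP.P →* GL (Fin A.d) (ZMod 5), Function.Injective ψ ∧ ∀ j < 3, ψ (HNP.p j) = F j :=
  HNP.bound.exists_inj (by norm_num) HNP.pres presF HNP.lbP lbQ

noncomputable def X : MRep A (ZMod 5) HNP.P := Ω.comp hom.choose hom.choose_spec.1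
theorem gens : X.Gens TT (atm 3 HNP.p) := gensF.comp _ hom.choose_spec.2

end Cfsg.Agent.Spor.HNq
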